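import Cfsg.Agent.H19.WielandtHall

/-! π-closed groups via π-separability and π'-homogeneity. -/

open scoped Pointwise

namespace Cfsg.Agent.H19

variable {G : Type*} [Group G]

/-- `O_π(G / O_π(G)) = 1`. -/
theorem piCore_quotient_piCore [Finite G] (π : Set ℕ) :
    Cfsg.piCore π (G ⧸ Cfsg.piCore π G) = ⊥ := by
  set A := Cfsg.piCore π G
  set q := QuotientGroup.mk' A with hq
  have h1 : ((Cfsg.piCore π (G ⧸ A)).comap q).Normal := Subgroup.Normal.comap inferInstance q
  have h2 : ∀ p : ℕ, p.Prime → p ∣ Nat.card ((Cfsg.piCore π (G ⧸ A)).comap q) → p ∈ π := by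
    intro p hp hd
    rw [hq, card_comap_mk] at hd
    exact (hp.dvd_mul.1 hd).elim (piCore_isPi π p hp) (piCore_isPi π p hp)
  have h3 := Subgroup.map_mono (f := q) (le_piCore h1 h2)
  rw [Subgroup.map_comap_eq_self_of_surjective (QuotientGroup.mk'_surjective A)] at h3
  rw [eq_bot_iff]
  refine h3.trans (le_of_eq ?_)
  rw [Subgroup.map_eq_bot_iff, hq, QuotientGroup.ker_mk']

/-- π-elements forming a subgroup: π-separable and π'-homogeneous. -/
theorem piSep_of_piClosed [Finite G] {π : Set ℕ} {K : Subgroup G}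
    (hK : ∀ x : G, x ∈ K ↔ ∀ p : ℕ, p.Prime → p ∣ orderOf x → p ∈ π) :
    HasFactorSeries (PiOrPiPrime π) G ∧
      ∀ H : Subgroup G, H ≠ ⊥ → (∀ p : ℕ, p.Prime → p ∣ Nat.card H → p ∉ π) →
        ∀ p : ℕ, p.Prime →
          p ∣ (Subgroup.centralizer (H : Set G)).relIndex (Subgroup.normalizer (H : Set G)) → p ∉ π := by
  have hKn : K.Normal := ⟨fun x hx g => by
    have e : orderOf (g * x * g⁻¹) = orderOf x :=
      orderOf_injective (MulAut.conj g).toMonoidHom (MulAut.conj g).injective x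
    rw [hK, e, ← hK]; exact hx⟩
  have hKπ : ∀ p : ℕ, p.Prime → p ∣ Nat.card K → p ∈ π := by
    intro p hp hd
    have : Fact p.Prime := ⟨hp⟩
    obtain ⟨x, hx⟩ := exists_prime_orderOf_dvd_card' p hd
    exact (hK x).1 x.2 p hp (by rw [Subgroup.orderOf_coe, hx])
  have hidx : ∀ p : ℕ, p.Prime → p ∈ π → ¬ p ∣ K.index := by
    intro p hp hπ hd
    have : Fact p.Prime := ⟨hp⟩
    obtain ⟨P⟩ : Nonempty (Sylow p G) := inferInstance
    refine P.not_dvd_index (hd.trans (Subgroup.index_dvd_of_le fun x hx => (hK x).2 fun r hr hrd => ?_))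
    obtain ⟨k, hk⟩ := IsPGroup.iff_orderOf.1 P.2 ⟨x, hx⟩
    rw [Subgroup.orderOf_mk] at hk
    rwa [(Nat.prime_dvd_prime_iff_eq hr hp).1 (hr.dvd_of_dvd_pow (hk ▸ hrd))]
  refine ⟨⟨2, ![⊥, K, ⊤], rfl, rfl, ?_, ?_, ?_⟩, fun H _ hH p hp hd hπ => ?_⟩
  · refine Fin.monotone_iff_le_succ.2 fun i => ?_
    fin_cases i
    · exact bot_le
    · exact le_top
  · intro i
    fin_cases i
    · exact (inferInstance : (⊥ : Subgroup G).Normal)
    · exact hKn
    · exact (inferInstance : (⊤ : Subgroup G).Normal)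
  · intro i
    fin_cases i
    · show PiOrPiPrime π ((⊥ : Subgroup G).relIndex K)
      rw [Subgroup.relIndex_bot_left]; exact Or.inl hKπ
    · show PiOrPiPrime π (K.relIndex ⊤)
      rw [Subgroup.relIndex_top_right]; exact Or.inr fun p hp hd hπ => hidx p hp hπ hd
  · have : Fact p.Prime := ⟨hp⟩
    set N := Subgroup.normalizer (H : Set G) with hN
    obtain ⟨S⟩ : Nonempty (Sylow p N) := inferInstance
    refine S.not_dvd_index (hd.trans (Subgroup.index_dvd_of_le fun x hx => ?_))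
    have hxK : (x : G) ∈ K := (hK _).2 fun r hr hrd => by
      obtain ⟨k, hk⟩ := IsPGroup.iff_orderOf.1 S.2 ⟨x, hx⟩
      rw [Subgroup.orderOf_mk, ← Subgroup.orderOf_coe] at hk
      rwa [(Nat.prime_dvd_prime_iff_eq hr hp).1 (hr.dvd_of_dvd_pow (hk ▸ hrd))]
    rw [Subgroup.mem_subgroupOf, Subgroup.mem_centralizer_iff]
    intro h hh
    have hbot : K ⊓ H = ⊥ := Subgroup.inf_eq_bot_of_coprime
      (Nat.coprime_of_dvd fun r hr h1 h2 => hH r hr h2 (hKπ r hr h1))
    have h1 : (x : G) * h * (x : G)⁻¹ * h⁻¹ ∈ K ⊓ H := ⟨by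
      have := K.mul_mem hxK (hKn.conj_mem _ (K.inv_mem hxK) h)
      simpa [mul_assoc] using this, H.mul_mem ((Subgroup.mem_normalizer_iff.1 x.2 h).1 hh) (H.inv_mem hh)⟩
    rw [hbot, Subgroup.mem_bot, mul_inv_eq_one, mul_inv_eq_iff_eq_mul] at h1
    exact h1.symm

/-- π-separable and π'-homogeneous groups are π-closed. -/
theorem piClosed_of_piSep [Finite G] {π : Set ℕ} (hsep : HasFactorSeries (PiOrPiPrime π) G)
    (hhom : ∀ H : Subgroup G, H ≠ ⊥ → (∀ p : ℕ, p.Prime → p ∣ Nat.card H → p ∉ π) →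
        ∀ p : ℕ, p.Prime →
          p ∣ (Subgroup.centralizer (H : Set G)).relIndex (Subgroup.normalizer (H : Set G)) → p ∉ π) :
    ∃ K : Subgroup G, ∀ x : G, x ∈ K ↔ ∀ p : ℕ, p.Prime → p ∣ orderOf x → p ∈ π := by
  set O := Cfsg.piCore π G with hO
  have hOπ := piCore_isPi (G := G) π
  refine ⟨O, fun x => ⟨fun hx p hp hd => hOπ p hp (hd.trans (Subgroup.orderOf_dvd_natCard O hx)),
    fun hx => ?_⟩⟩
  suffices hidx : ∀ p : ℕ, p.Prime → p ∈ π → ¬ p ∣ Nat.card (G ⧸ O) by
    by_contra hxO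
    obtain ⟨p, hp, hd⟩ := Nat.exists_prime_and_dvd (n := orderOf (QuotientGroup.mk' O x))
      (fun h => hxO ((QuotientGroup.eq_one_iff x).1 (orderOf_eq_one_iff.1 h)))
    exact hidx p hp (hx p hp (hd.trans (orderOf_map_dvd _ x))) (hd.trans (orderOf_dvd_natCard _))
  intro p hp hpπ hpQ
  have : Fact p.Prime := ⟨hp⟩
  obtain ⟨gb, hgb⟩ := exists_prime_orderOf_dvd_card' p hpQ
  set q := QuotientGroup.mk' O with hq
  have hsurj := QuotientGroup.mk'_surjective O
  set M := Cfsg.piCore πᶜ (G ⧸ O) with hM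
  have hMπ : ∀ r : ℕ, r.Prime → r ∣ Nat.card M → r ∉ π := fun r hr hd => piCore_isPi πᶜ r hr hd
  have hsep' : HasFactorSeries (PiOrPiPrime πᶜ) (G ⧸ O) := by
    obtain ⟨n, H, a, b, c, d, e⟩ := hsep.of_surjective (fun _ _ => PiOrPiPrime.of_dvd) q hsurj
    exact ⟨n, H, a, b, c, d, fun i => ((e i).symm).imp (fun h r hr hd => h r hr hd)
      (fun h r hr hd hc => hc (h r hr hd))⟩
  have hCM := centralizer_piCore_le hsep' (by rw [compl_compl]; exact piCore_quotient_piCore π)
  set A := Subgroup.zpowers gb with hA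
  have hAc : Nat.card A = p := by rw [hA, Nat.card_zpowers, hgb]
  suffices hMA : M ≤ Subgroup.centralizer (A : Set (G ⧸ O)) by
    have hgM : gb ∈ M := hCM (Subgroup.mem_centralizer_iff.2 fun m hm =>
      (Subgroup.mem_centralizer_iff.1 (hMA hm) gb (Subgroup.mem_zpowers gb)).symm)
    exact hMπ p hp (hgb ▸ Subgroup.orderOf_dvd_natCard M hgM) hpπ
  have hMn : M.Normal := inferInstance
  refine Subgroup.subgroupOf_eq_top.1 (eq_top_of_forall_sylow_le _ fun r hr hrM => ?_)
  have : Fact r.Prime := ⟨hr⟩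
  have hrπ := hMπ r hr hrM
  have hAsolv : Group.IsSolvable A := by
    have := (IsPGroup.of_card (n := 1) (by rw [pow_one, hAc] : Nat.card A = p ^ 1)).isNilpotent
    infer_instance
  obtain ⟨W, hW⟩ := H20.exists_invariant_sylow (A := A) (K := M)
    (by rw [Subgroup.normalizer_eq_top_iff.2 hMn]; exact le_top)
    (by rw [hAc]; exact hp.coprime_iff_not_dvd.2 fun hd => hMπ p hp hd hpπ) (Or.inl hAsolv) r
  refine ⟨W, ?_, W.not_dvd_index⟩
  set W' := (W : Subgroup M).map M.subtype with hW'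
  suffices hWA : W' ≤ Subgroup.centralizer (A : Set (G ⧸ O)) from fun w hw => hWA ⟨w, hw, rfl⟩
  by_cases hW0 : W' = ⊥
  · rw [hW0]; exact bot_le
  obtain ⟨k, hk⟩ := IsPGroup.iff_card.1 (W.2.map M.subtype)
  rw [← hW'] at hk
  set Y := W'.comap q with hY
  have hOY : O ≤ Y := QuotientGroup.le_comap_mk' O W'
  set Oy := O.subgroupOf Y with hOy
  have : Oy.Normal := Subgroup.Normal.subgroupOf inferInstance Y
  have hcO : Nat.card Oy = Nat.card O :=
    Nat.card_congr (Subgroup.subgroupOfEquivOfLe hOY).toEquiv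
  have hiO : Oy.index = Nat.card W' := by
    have h1 := Subgroup.card_mul_index Oy
    have h2 : Nat.card Y = Nat.card W' * Nat.card O := card_comap_mk O W'
    rw [hcO, h2, mul_comm (Nat.card W')] at h1
    exact Nat.eq_of_mul_eq_mul_left Nat.card_pos h1
  have hcop : (Nat.card Oy).Coprime Oy.index := by
    rw [hcO, hiO, hk]
    exact ((hr.coprime_iff_not_dvd.2 fun hd => hrπ (hOπ r hr hd)).symm).pow_right k
  have hsq : Group.IsSolvable (Y ⧸ Oy) := by
    have := (IsPGroup.of_card (n := k) (p := r) (by rw [← Subgroup.index_eq_card, hiO, hk] :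
      Nat.card (Y ⧸ Oy) = r ^ k)).isNilpotent
    infer_instance
  obtain ⟨K₀, hK₀⟩ := Subgroup.exists_right_complement'_of_coprime hcop
  set H := K₀.map Y.subtype with hH
  have hHY : H ≤ Y := Subgroup.map_subtype_le K₀
  have hHc : Nat.card H = Nat.card W' := by
    rw [hH, Subgroup.card_map_of_injective Y.subtype_injective, card_eq_index_of_isComplement' hK₀, hiO]
  have hHmap : H.map q = W' := by
    have hle : H.map q ≤ W' := Subgroup.map_le_iff_le_comap.2 hHY
    refine Subgroup.eq_of_le_of_card_ge hle ?_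
    rw [hq, card_map_mk_of_inf_eq_bot O H (Subgroup.inf_eq_bot_of_coprime
      (by rw [hHc, hk]; exact (hr.coprime_iff_not_dvd.2 fun hd => hrπ (hOπ r hr hd)).pow_left k)), hHc]
  obtain ⟨g, rfl⟩ := hsurj gb
  have hgW : MulAut.conj (q g) • W' = W' := conj_smul_eq_of_mem_normalizer (hW (Subgroup.mem_zpowers _))
  have hgH : MulAut.conj g • H ≤ Y := by
    rw [hY, ← Subgroup.map_le_iff_le_comap, map_conj_smul, hHmap, hgW]
  have hcg : Nat.card ((MulAut.conj g • H).subgroupOf Y) = Oy.index := by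
    rw [Nat.card_congr (Subgroup.subgroupOfEquivOfLe hgH).toEquiv, card_conj_smul, hHc, hiO]
  obtain ⟨n, hn, hconj⟩ := sz_conj Oy hcop (Or.inr hsq) hK₀ (isComplement'_of_card_eq_index hcop hcg)
  have hn' := congr_arg (Subgroup.map Y.subtype) hconj
  rw [map_conj_smul, Subgroup.map_subgroupOf_eq_of_le hgH, ← hH] at hn'
  set g' := (n : G)⁻¹ * g with hg'
  have hg'N : g' ∈ Subgroup.normalizer (H : Set G) := mem_normalizer_of_conj_smul_eq (by
    rw [hg', conj_mul_smul, ← hn', map_inv]; exact inv_smul_smul _ _)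
  have hqg : q g' = q g := by
    have hn1 : q (n : G) = 1 := (QuotientGroup.eq_one_iff (n : G)).2 hn
    rw [hg', map_mul, map_inv, hn1, inv_one, one_mul]
  have hord : orderOf g' ∣ p * Nat.card O := by
    have hmem : g' ^ p ∈ O := by
      refine (QuotientGroup.eq_one_iff _).1 ?_
      show q (g' ^ p) = 1
      rw [map_pow, hqg, ← hgb, pow_orderOf_eq_one]
    refine orderOf_dvd_of_pow_eq_one ?_
    rw [pow_mul]
    exact congr_arg Subtype.val (pow_card_eq_one' (x := (⟨_, hmem⟩ : O)))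
  have hH0 : H ≠ ⊥ := fun e => hW0 (by rw [← hHmap, e, Subgroup.map_bot])
  set C := Subgroup.centralizer (H : Set G) with hC
  set N := Subgroup.normalizer (H : Set G) with hN
  have hcm : (C.relIndex N).Coprime (orderOf g') := Nat.coprime_of_dvd fun s hs h1 h2 => by
    refine hhom H hH0 (fun t ht hd => ?_) s hs h1 ?_
    · rw [hHc, hk] at hd
      rw [(Nat.prime_dvd_prime_iff_eq ht hr).1 (ht.dvd_of_dvd_pow hd)]; exact hrπ
    · rcases hs.dvd_mul.1 (h2.trans hord) with h3 | h3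
      · rwa [(Nat.prime_dvd_prime_iff_eq hs hp).1 h3]
      · exact hOπ s hs h3
  have hg'C : g' ∈ C := by
    have : (C.subgroupOf N).Normal :=
      (Subgroup.normal_subgroupOf_iff_le_normalizer (Subgroup.centralizer_le_normalizer _)).2
        H33.normalizer_le_normalizer_centralizer
    have h1 : g' ^ C.relIndex N ∈ C := Subgroup.pow_index_mem (C.subgroupOf N) (⟨g', hg'N⟩ : N)
    obtain ⟨m, hm⟩ := exists_pow_eq_self_of_coprime hcm
    rw [← hm]; exact C.pow_mem h1 m
  intro w hw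
  rw [← hHmap] at hw
  obtain ⟨h, hh, rfl⟩ := hw
  rw [Subgroup.mem_centralizer_iff]
  intro a ha
  obtain ⟨j, rfl⟩ := ha
  have hcomm : Commute g' h := (Subgroup.mem_centralizer_iff.1 hg'C h hh).symm
  have := (hcomm.map q).zpow_left j
  rw [hqg] at this
  exact this.eq

end Cfsg.Agent.H19
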