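import Mathlib
import Cfsg.Prelude.Def_Blocks
import Cfsg.Agent.H19.Cores
import Cfsg.Agent.H19.MinimalNormal
import Cfsg.Agent.H21.Complement
import Cfsg.Agent.H26.CharOrtho
import Cfsg.Agent.H44.Inflation
import Cfsg.Agent.H45.ExtendComplement

/-!
# Vanishing `p`-elements of solvable groups

If `M` is a minimal normal subgroup of a group with trivial `p`-core and `A/M` is a normal abelian
`p`-subgroup, every element of `A \ M` is a zero of some irreducible character (regular orbit of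
`A/M` on the dual of `M`). Combined with the zeros on `Z₂(P) \ Z(P)` this bounds the Sylow
`p`-subgroup when all vanishing `p`-singular elements are conjugate.
-/

set_option autoImplicit false

open scoped IsMulCommutative

namespace Cfsg.Agent.H19

universe u

/-- Some irreducible character is zero at `g`. -/
def Vanishes {G : Type u} [Group G] (g : G) : Prop :=
  ∃ χ : Cfsg.IrrCharacter G, (χ : G → ℂ) g = 0

/-- All vanishing elements of order divisible by `p` are conjugate. -/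
def ConjVanishing (p : ℕ) (G : Type u) [Group G] : Prop :=
  ∀ x y : G, Vanishes x → p ∣ orderOf x → Vanishes y → p ∣ orderOf y → IsConj x y

variable {G : Type u} [Group G] [Finite G]

theorem Vanishes.of_mk {N : Subgroup G} [N.Normal] {g : G}
    (h : Vanishes (QuotientGroup.mk' N g)) : Vanishes g := by
  obtain ⟨χ, hχ⟩ := h
  exact ⟨H44.inflate N χ, hχ⟩

theorem ConjVanishing.quotient {p : ℕ} (h : ConjVanishing p G) (N : Subgroup G) [N.Normal] :
    ConjVanishing p (G ⧸ N) := by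
  intro x y hx hxp hy hyp
  obtain ⟨x, rfl⟩ := QuotientGroup.mk'_surjective N x
  obtain ⟨y, rfl⟩ := QuotientGroup.mk'_surjective N y
  exact MonoidHom.map_isConj _ (h x y hx.of_mk (hxp.trans (orderOf_map_dvd _ x))
    hy.of_mk (hyp.trans (orderOf_map_dvd _ y)))

/-- A `p`-element of a quotient lifts to a `p`-element. -/
theorem exists_pElement_preimage {p : ℕ} [hp : Fact p.Prime] (N : Subgroup G) [N.Normal]
    (x : G ⧸ N) {k : ℕ} (hx : orderOf x = p ^ k) :
    ∃ g : G, QuotientGroup.mk' N g = x ∧ ∃ j : ℕ, orderOf g = p ^ j := by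
  obtain ⟨g, rfl⟩ := QuotientGroup.mk'_surjective N x
  obtain ⟨a, m, hm, hn⟩ := Nat.exists_eq_pow_mul_and_not_dvd (orderOf_pos g).ne' p hp.out.ne_one
  have hka : k ≤ a := by
    have h1 : p ^ k ∣ p ^ a * m := hn ▸ hx ▸ orderOf_map_dvd _ g
    have h2 : Nat.Coprime (p ^ k) m :=
      Nat.Coprime.pow_left _ ((Nat.Prime.coprime_iff_not_dvd hp.out).2 hm)
    exact (Nat.pow_dvd_pow_iff_le_right hp.out.one_lt).1 (h2.dvd_of_dvd_mul_right h1)
  obtain ⟨e, he1, he0⟩ := Nat.chineseRemainder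
    (Nat.Coprime.pow_left a ((Nat.Prime.coprime_iff_not_dvd hp.out).2 hm)) 1 0
  refine ⟨g ^ e, ?_, ?_⟩
  · rw [map_pow]
    have h3 : e ≡ 1 [MOD orderOf (QuotientGroup.mk' N g)] :=
      Nat.ModEq.of_dvd (hx ▸ pow_dvd_pow p hka) he1
    rw [pow_eq_pow_iff_modEq.2 h3, pow_one]
  · obtain ⟨j, -, hj⟩ := (Nat.dvd_prime_pow hp.out).1 (show orderOf (g ^ e) ∣ p ^ a by
      apply orderOf_dvd_of_pow_eq_one
      rw [← pow_mul, ← orderOf_dvd_iff_pow_eq_one, hn, mul_comm (p ^ a) m]
      exact Nat.mul_dvd_mul_right (Nat.modEq_zero_iff_dvd.1 he0) _)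
    exact ⟨j, hj⟩

/-- Zeros on the second centre: `y` is moved by `q` by a central factor `z` outside the kernel. -/
theorem vanishes_of_conj_eq_mul {y q z : G} [hn : (Subgroup.zpowers z).Normal] (hz : z ≠ 1)
    (hqz : q * z = z * q) (h : q * y * q⁻¹ = y * z) : Vanishes y := by
  classical
  obtain ⟨χ, hχ⟩ := H45.exists_irr_apply_ne hz
  obtain ⟨n, ρ, hρ, e⟩ := χ.2
  refine ⟨χ, ?_⟩
  haveI := Fintype.ofFinite ↥(Subgroup.zpowers z)
  have hpow : ∀ i : ℕ, q ^ i * y * (q ^ i)⁻¹ = y * z ^ i := by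
    intro i
    induction i with
    | zero => simp
    | succ i ih =>
      have hc : q * z ^ i = z ^ i * q := (Commute.pow_right hqz i)
      calc q ^ (i + 1) * y * (q ^ (i + 1))⁻¹ = q * (q ^ i * y * (q ^ i)⁻¹) * q⁻¹ := by
            rw [pow_succ']; group
        _ = q * (y * z ^ i) * q⁻¹ := by rw [ih]
        _ = q * y * q⁻¹ * (q * z ^ i * q⁻¹) := by group
        _ = y * z * z ^ i := by rw [h, hc, mul_inv_cancel_right]
        _ = y * z ^ (i + 1) := by rw [mul_assoc, ← pow_succ']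
  have hconst : ∀ w ∈ Subgroup.zpowers z, ρ.character (y * w) = ρ.character y := by
    intro w hw
    obtain ⟨i, rfl⟩ := (isOfFinOrder_of_finite z).mem_powers_iff_mem_zpowers.2 hw
    rw [← hpow, ρ.char_conj]
  let S : Module.End ℂ (Fin n → ℂ) := ∑ w : ↥(Subgroup.zpowers z), ρ w
  have hS : S = 0 := by
    let U : Subrepresentation ρ :=
      { toSubmodule := Representation.invariants (ρ.comp (Subgroup.zpowers z).subtype)
        apply_mem_toSubmodule := fun x v hv =>
          ρ.le_comap_invariants (Subgroup.zpowers z) x hv }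
    have hU : U = ⊥ := by
      rcases IsSimpleOrder.eq_bot_or_eq_top U with h0 | h0
      · exact h0
      · exfalso
        apply hχ
        have hz1 : ρ z = 1 := LinearMap.ext fun v => by
          have hv : v ∈ U := by rw [h0]; trivial
          exact hv ⟨z, Subgroup.mem_zpowers z⟩
        rw [← e, Representation.character, Representation.character, hz1, map_one ρ]
    refine LinearMap.ext fun v => ?_
    have hmem : S v ∈ U := by
      intro x
      show ρ (x : G) (S v) = S v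
      simp only [S, LinearMap.sum_apply, map_sum]
      refine Fintype.sum_equiv (Equiv.mulLeft x) _ _ fun w => ?_
      simp
    rw [hU] at hmem
    simpa using (Submodule.mem_bot ℂ).mp hmem
  have h1 : ∑ w : ↥(Subgroup.zpowers z), ρ.character (y * w) =
      LinearMap.trace ℂ (Fin n → ℂ) (ρ y * S) := by
    simp [S, Finset.mul_sum, Representation.character]
  rw [hS, mul_zero, map_zero, Finset.sum_congr rfl fun (w : ↥(Subgroup.zpowers z)) _ => hconst _ w.2, Finset.sum_const,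
    Finset.card_univ, nsmul_eq_mul] at h1
  rw [← e]
  exact (mul_eq_zero.1 h1).resolve_left (by exact_mod_cast Fintype.card_ne_zero)

section Regular

variable {Z A : Type*} [CommGroup Z] [Finite Z] [CommGroup A] [Finite A] (φ : Z →* MulAut A)

/-- A coprime action of an abelian group on an abelian group has, on every invariant subgroup, an
element whose stabilizer acts trivially there. -/
theorem exists_regular_on (hcop : (Nat.card Z).Coprime (Nat.card A)) (W : Subgroup A)
    (hW : ∀ z, ∀ a ∈ W, φ z a ∈ W) :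
    ∃ a ∈ W, ∀ z, φ z a = a → ∀ b ∈ W, φ z b = b := by
  classical
  induction hn : Nat.card W using Nat.strong_induction_on generalizing W with
  | _ n ih =>
  subst hn
  by_cases hfree : ∀ z, (∃ b ∈ W, φ z b ≠ b) → ∀ b ∈ W, φ z b = b → b = 1
  · by_cases h1 : W = ⊥
    · exact ⟨1, one_mem _, fun z _ b hb => by rw [h1, Subgroup.mem_bot] at hb; subst hb; simp⟩
    · obtain ⟨⟨a, ha⟩, hne⟩ := W.ne_bot_iff_exists_ne_one.1 h1
      have ha1 : a ≠ 1 := fun h => hne (Subtype.ext h)
      exact ⟨a, ha, fun z hz b hb => by_contra fun hne => ha1 (hfree z ⟨b, hb, hne⟩ a ha hz)⟩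
  push Not at hfree
  obtain ⟨y, ⟨b₀, hb₀, hyb₀⟩, c₀, hc₀, hyc₀, hc1⟩ := hfree
  have hcomm : ∀ x z a, φ x (φ z a) = φ z (φ x a) := fun x z a => by
    rw [← MulAut.mul_apply, ← map_mul, mul_comm, map_mul, MulAut.mul_apply]
  haveI := Fintype.ofFinite ↥(Subgroup.zpowers y)
  let D : A →* A :=
    { toFun := fun a => φ y a / a
      map_one' := by simp
      map_mul' := fun a b => by rw [map_mul, mul_div_mul_comm] }
  let N : A →* A :=
    { toFun := fun a => ∏ c : Subgroup.zpowers y, φ c a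
      map_one' := by simp
      map_mul' := fun a b => by simp [Finset.prod_mul_distrib] }
  set W₁ := W ⊓ D.ker with hW₁
  set W₂ := W.map D with hW₂
  have hker : ∀ a, a ∈ D.ker ↔ φ y a = a := fun a => by
    rw [MonoidHom.mem_ker]; exact div_eq_one
  have h1inv : ∀ z, ∀ a ∈ W₁, φ z a ∈ W₁ := fun z a ha =>
    ⟨hW z a ha.1, (hker _).2 (by rw [hcomm, (hker a).1 ha.2])⟩
  have h2inv : ∀ z, ∀ a ∈ W₂, φ z a ∈ W₂ := by
    rintro z _ ⟨a, ha, rfl⟩
    exact ⟨φ z a, hW z a ha, by
      show φ y (φ z a) / φ z a = φ z (φ y a / a)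
      rw [map_div, hcomm]⟩
  have h2le : W₂ ≤ W := by
    rintro _ ⟨a, ha, rfl⟩
    exact W.div_mem (hW y a ha) ha
  have hND : ∀ a, N (D a) = 1 := fun a => by
    show N (φ y a / a) = 1
    rw [map_div, div_eq_one]
    refine Fintype.prod_equiv (Equiv.mulRight (⟨y, Subgroup.mem_zpowers y⟩ : Subgroup.zpowers y)) _ _
      fun c => ?_
    simp [← MulAut.mul_apply, ← map_mul]
  have hdisj : W₁ ⊓ W₂ = ⊥ := by
    rw [eq_bot_iff]
    rintro a ⟨ha, ⟨b, -, rfl⟩⟩
    have hfix : ∀ c : Subgroup.zpowers y, φ c (D b) = D b := by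
      rintro ⟨c, hc⟩
      obtain ⟨i, rfl⟩ := (isOfFinOrder_of_finite y).mem_powers_iff_mem_zpowers.2 hc
      show φ (y ^ i) (D b) = D b
      induction i with
      | zero => simp
      | succ i ih =>
        rw [pow_succ, map_mul, MulAut.mul_apply, (hker _).1 ha.2, ih (Subgroup.mem_zpowers_iff.2
          ⟨i, zpow_natCast y i⟩)]
    have hN := hND b
    rw [show N (D b) = ∏ c : Subgroup.zpowers y, φ c (D b) from rfl,
      Finset.prod_congr rfl fun c _ => hfix c, Finset.prod_const, Finset.card_univ,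
      ← Nat.card_eq_fintype_card] at hN
    rw [Subgroup.mem_bot, ← orderOf_eq_one_iff]
    exact Nat.eq_one_of_dvd_coprimes (hcop.coprime_dvd_left (Subgroup.card_subgroup_dvd_card _))
      (orderOf_dvd_of_pow_eq_one hN) (orderOf_dvd_natCard _)
  have hcard : Nat.card W₁ * Nat.card W₂ = Nat.card W := by
    let f : W →* A := D.comp W.subtype
    have hr : f.range = W₂ := by rw [hW₂, MonoidHom.range_comp, Subgroup.range_subtype]
    have hk : f.ker.map W.subtype = W₁ := by
      ext a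
      constructor
      · rintro ⟨w, hw, rfl⟩; exact ⟨w.2, hw⟩
      · intro ha; exact ⟨⟨a, ha.1⟩, ha.2, rfl⟩
    rw [← hk, Subgroup.card_map_of_injective W.subtype_injective, ← hr,
      ← Subgroup.index_ker, Subgroup.card_mul_index]
  have hsup : ∀ b ∈ W, ∃ b₁ ∈ W₁, ∃ b₂ ∈ W₂, b = b₁ * b₂ := by
    let m : W₁ × W₂ → W := fun x => ⟨x.1.1 * x.2.1, W.mul_mem x.1.2.1 (h2le x.2.2)⟩
    have hminj : Function.Injective m := by
      intro x x' he
      have he' : x.1.1 * x.2.1 = x'.1.1 * x'.2.1 := congrArg Subtype.val he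
      exact Subgroup.mul_injective_of_disjoint (disjoint_iff.2 hdisj) he'
    have hm := (Nat.bijective_iff_injective_and_card m).2 ⟨hminj, by rw [Nat.card_prod, hcard]⟩
    intro b hb
    obtain ⟨⟨x₁, x₂⟩, hx⟩ := hm.2 ⟨b, hb⟩
    exact ⟨x₁, x₁.2, x₂, x₂.2, (congrArg Subtype.val hx).symm⟩
  have hlt1 : Nat.card W₁ < Nat.card W :=
    Set.Finite.card_lt_card (Set.toFinite (W : Set A)) (Set.ssubset_iff_exists.2
      ⟨fun a ha => ha.1, b₀, hb₀, fun h => hyb₀ ((hker b₀).1 h.2)⟩)
  have hlt2 : Nat.card W₂ < Nat.card W := by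
    refine Set.Finite.card_lt_card (Set.toFinite (W : Set A)) (Set.ssubset_iff_exists.2
      ⟨h2le, c₀, hc₀, fun h => hc1 ?_⟩)
    have : c₀ ∈ W₁ ⊓ W₂ := ⟨⟨hc₀, (hker c₀).2 hyc₀⟩, h⟩
    rwa [hdisj, Subgroup.mem_bot] at this
  obtain ⟨a₁, ha₁, hr₁⟩ := ih _ hlt1 W₁ h1inv rfl
  obtain ⟨a₂, ha₂, hr₂⟩ := ih _ hlt2 W₂ h2inv rfl
  refine ⟨a₁ * a₂, W.mul_mem ha₁.1 (h2le ha₂), fun z hz b hb => ?_⟩
  obtain ⟨e1, e2⟩ := Prod.ext_iff.1 (Subgroup.mul_injective_of_disjoint (disjoint_iff.2 hdisj)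
    (a₁ := ((⟨φ z a₁, h1inv z a₁ ha₁⟩ : W₁), (⟨φ z a₂, h2inv z a₂ ha₂⟩ : W₂)))
    (a₂ := ((⟨a₁, ha₁⟩ : W₁), (⟨a₂, ha₂⟩ : W₂)))
    (show φ z a₁ * φ z a₂ = a₁ * a₂ by rw [← map_mul]; exact hz))
  obtain ⟨b₁, hb₁, b₂, hb₂, rfl⟩ := hsup b hb
  rw [map_mul, hr₁ z (congrArg Subtype.val e1) b₁ hb₁, hr₂ z (congrArg Subtype.val e2) b₂ hb₂]

end Regular

/-- A faithful coprime action of an abelian group on an abelian group has a regular linear
character. -/
theorem exists_regular_linear {p : ℕ} [hp : Fact p.Prime] (M Z : Subgroup G) [M.Normal]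
    [IsMulCommutative M] [IsMulCommutative Z] (hM : ¬ p ∣ Nat.card M) (hZ : IsPGroup p Z)
    (hfaith : ∀ z ∈ Z, (∀ m ∈ M, z * m = m * z) → z = 1) :
    ∃ l : ↥M →* ℂˣ, ∀ z ∈ Z, (∀ m : M, l (MulAut.conjNormal z m) = l m) → z = 1 := by
  haveI : NeZero (Monoid.exponent ↥M : ℂ) := ⟨Nat.cast_ne_zero.2 Monoid.exponent_ne_zero_of_finite⟩
  obtain ⟨iso⟩ := CommGroup.monoidHom_mulEquiv_of_hasEnoughRootsOfUnity ↥M ℂ
  haveI : Finite (↥M →* ℂˣ) := Finite.of_equiv _ iso.symm.toEquiv
  let φ : Z →* MulAut (↥M →* ℂˣ) :=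
    { toFun := fun z =>
        { toFun := fun l => l.comp (MulAut.conjNormal (z : G)⁻¹).toMonoidHom
          invFun := fun l => l.comp (MulAut.conjNormal (z : G)).toMonoidHom
          left_inv := fun l => MonoidHom.ext fun m => by simp
          right_inv := fun l => MonoidHom.ext fun m => by simp
          map_mul' := fun _ _ => rfl }
      map_one' := MulEquiv.ext fun l => MonoidHom.ext fun m => by simp
      map_mul' := fun z z' => MulEquiv.ext fun l => MonoidHom.ext fun m => by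
        show l (MulAut.conjNormal ((z * z' : Z) : G)⁻¹ m) =
          l (MulAut.conjNormal (z' : G)⁻¹ (MulAut.conjNormal (z : G)⁻¹ m))
        rw [Subgroup.coe_mul, mul_inv_rev, map_mul, MulAut.mul_apply] }
  obtain ⟨l, -, hl⟩ := exists_regular_on (Z := ↥Z) (A := ↥M →* ℂˣ) φ (by
      rw [Nat.card_congr iso.toEquiv]
      obtain ⟨k, hk⟩ := IsPGroup.iff_card.1 hZ
      rw [hk]
      exact ((Nat.Prime.coprime_iff_not_dvd hp.out).2 hM).pow_left k) ⊤ fun _ _ _ => Subgroup.mem_top _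
  refine ⟨l, fun z hz hfix => ?_⟩
  have hinv : φ ⟨z, hz⟩ l = l := MonoidHom.ext fun m => by
    show l (MulAut.conjNormal z⁻¹ m) = l m
    conv_rhs => rw [← show MulAut.conjNormal z (MulAut.conjNormal z⁻¹ m) = m by simp]
    exact (hfix _).symm
  refine hfaith z hz fun m hm => ?_
  by_contra hne
  obtain ⟨ν, hν⟩ : ∃ ν : ↥M →* ℂˣ,
      ν (MulAut.conjNormal z⁻¹ (⟨m, hm⟩ : M) / ⟨m, hm⟩) ≠ 1 := by
    refine CommGroup.exists_apply_ne_one_of_hasEnoughRootsOfUnity ↥M ℂ fun h => hne ?_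
    have h' : z⁻¹ * m * z = m := by
      simpa using congrArg Subtype.val (div_eq_one.1 h)
    calc z * m = z * (z⁻¹ * m * z) := by rw [h']
      _ = m * z := by group
  apply hν
  rw [map_div, div_eq_one]
  exact DFunLike.congr_fun (hl ⟨z, hz⟩ hinv ν (Subgroup.mem_top _)) _

/-- An element moving every conjugate of a linear character of an abelian normal subgroup is a
zero of some irreducible character. -/
theorem vanishes_of_moves (M : Subgroup G) [M.Normal] [IsMulCommutative M] (l : ↥M →* ℂˣ) (x : G)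
    (hx : ∀ g : G, ∃ m : M, l (MulAut.conjNormal g (MulAut.conjNormal x m)) ≠
      l (MulAut.conjNormal g m)) : Vanishes x := by
  classical
  haveI := Fintype.ofFinite G
  haveI : Fintype ↥M := Fintype.ofFinite _
  haveI : NeZero (Monoid.exponent ↥M : ℂ) := ⟨Nat.cast_ne_zero.2 Monoid.exponent_ne_zero_of_finite⟩
  obtain ⟨iso⟩ := CommGroup.monoidHom_mulEquiv_of_hasEnoughRootsOfUnity ↥M ℂ
  haveI : Finite (↥M →* ℂˣ) := Finite.of_equiv _ iso.symm.toEquiv
  haveI : Fintype (↥M →* ℂˣ) := Fintype.ofFinite _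
  obtain ⟨χ, hχ⟩ : ∃ χ : Cfsg.IrrCharacter G,
      (∑ m : M, ((l m)⁻¹ : ℂˣ).1 * χ.1 m) ≠ 0 := by
    by_contra h
    push Not at h
    have h1 : (∑ m : M, ((l m)⁻¹ : ℂˣ).1 * (Representation.leftRegular ℂ G).character m) = 0 := by
      rw [H26.char_leftRegular_eq_sum]
      simp only [Finset.sum_apply, Pi.smul_apply, smul_eq_mul, Finset.mul_sum]
      rw [Finset.sum_comm]
      refine Finset.sum_eq_zero fun χ _ => ?_
      rw [← mul_eq_zero_of_right (χ.1 1) (h χ), Finset.mul_sum]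
      exact Finset.sum_congr rfl fun m _ => by ring
    simp only [H26.char_leftRegular, OneMemClass.coe_eq_one, mul_ite, mul_zero,
      Finset.sum_ite_eq', Finset.mem_univ, if_true, map_one, inv_one, Units.val_one, one_mul] at h1
    exact Nat.card_pos.ne' (Nat.cast_eq_zero.1 h1)
  obtain ⟨n, ρ, hρ, e⟩ := χ.2
  refine ⟨χ, ?_⟩
  let E : (↥M →* ℂˣ) → Module.End ℂ (Fin n → ℂ) := fun μ =>
    ∑ m : M, ((μ m)⁻¹ : ℂˣ).1 • ρ m
  have hconj : ∀ (g : G) (μ : ↥M →* ℂˣ),
      ρ g * E μ = E (μ.comp (MulAut.conjNormal g⁻¹).toMonoidHom) * ρ g := by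
    intro g μ
    simp only [E, Finset.mul_sum, Finset.sum_mul, mul_smul_comm, smul_mul_assoc]
    refine Fintype.sum_equiv (MulAut.conjNormal g).toEquiv _ _ fun m => ?_
    simp [← map_mul, MulAut.conjNormal_apply, mul_assoc]
  have hleft : ∀ (c : M) (μ : ↥M →* ℂˣ), ρ c * E μ = (μ c : ℂˣ).1 • E μ := by
    intro c μ
    simp only [E, Finset.mul_sum, Finset.smul_sum, mul_smul_comm, smul_smul]
    refine Fintype.sum_equiv (Equiv.mulLeft c) _ _ fun m => ?_
    simp [← map_mul]
    congr 1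
    rw [map_mul μ, Units.val_mul]
    field_simp
  have hright : ∀ (c : M) (μ : ↥M →* ℂˣ), E μ * ρ c = (μ c : ℂˣ).1 • E μ := by
    intro c μ
    rw [← hleft]
    simp only [E, Finset.mul_sum, Finset.sum_mul, mul_smul_comm, smul_mul_assoc]
    refine Finset.sum_congr rfl fun m _ => ?_
    rw [← map_mul, ← map_mul, ← Subgroup.coe_mul, ← Subgroup.coe_mul, mul_comm m c]
  have horth : ∀ μ ν : ↥M →* ℂˣ, μ ≠ ν → E μ * E ν = 0 := by
    intro μ ν hne
    obtain ⟨c, hc⟩ := not_forall.1 fun h => hne (MonoidHom.ext h)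
    have h1 : (μ c : ℂˣ).1 • (E μ * E ν) = (ν c : ℂˣ).1 • (E μ * E ν) := by
      rw [← smul_mul_assoc, ← hright, ← mul_smul_comm, ← hleft, mul_assoc]
    by_contra h0
    exact hc (Units.ext (smul_left_injective ℂ h0 h1))
  let conjL : G → (↥M →* ℂˣ) := fun g => l.comp (MulAut.conjNormal g).toMonoidHom
  let U : Subrepresentation ρ :=
    { toSubmodule := ⨆ g : G, LinearMap.range (E (conjL g))
      apply_mem_toSubmodule := by
        intro h v hv
        refine Submodule.iSup_induction _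
          (motive := fun w => ρ h w ∈ ⨆ g : G, LinearMap.range (E (conjL g))) hv ?_ (by simp)
          (fun a b ha hb => by rw [map_add]; exact Submodule.add_mem _ ha hb)
        rintro g _ ⟨w, rfl⟩
        refine Submodule.mem_iSup_of_mem (g * h⁻¹) ⟨ρ h w, ?_⟩
        have := LinearMap.congr_fun (hconj h (conjL g)) w
        rw [show (conjL g).comp (MulAut.conjNormal h⁻¹).toMonoidHom = conjL (g * h⁻¹) from
          MonoidHom.ext fun m => by simp [conjL, map_mul]] at this
        exact this.symm }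
  have hE1 : E l ≠ 0 := fun h => hχ (by
    have h1 : LinearMap.trace ℂ (Fin n → ℂ) (E l) = 0 := by rw [h, map_zero]
    simpa [E, ← e, Representation.character] using h1)
  have hUtop : U = ⊤ := by
    refine (IsSimpleOrder.eq_bot_or_eq_top U).resolve_left fun h => hE1 (LinearMap.ext fun v => ?_)
    have hmem : E l v ∈ U := Submodule.mem_iSup_of_mem 1 ⟨v, by simp [conjL, E]⟩
    rw [h] at hmem
    simpa using (Submodule.mem_bot ℂ).mp hmem
  have hzero : ∀ μ : ↥M →* ℂˣ, (∀ g, μ ≠ conjL g) → E μ = 0 := by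
    intro μ hμ
    apply LinearMap.ext
    intro v
    have hv : v ∈ U := by rw [hUtop]; trivial
    refine Submodule.iSup_induction _ (motive := fun w => E μ w = 0) hv ?_ (map_zero _)
      (fun a b ha hb => by rw [map_add, ha, hb, add_zero])
    rintro g _ ⟨w, rfl⟩
    exact LinearMap.congr_fun (horth μ _ (hμ g)) w
  have htr : ∀ μ : ↥M →* ℂˣ, LinearMap.trace ℂ (Fin n → ℂ) (ρ x * E μ) = 0 := by
    intro μ
    by_cases hμ : ∀ g, μ ≠ conjL g
    · rw [hzero μ hμ, mul_zero, map_zero]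
    simp only [not_forall, not_not] at hμ
    obtain ⟨g, rfl⟩ := hμ
    obtain ⟨c, hc⟩ := hx g
    let c' : M := MulAut.conjNormal x c
    have h1 : ρ (c' : G) * (ρ x * E (conjL g)) * ρ ((c'⁻¹ : M) : G) =
        ((conjL g c : ℂˣ).1 * (conjL g c'⁻¹ : ℂˣ).1) • (ρ x * E (conjL g)) := by
      have hcx : (c' : G) * x = x * c := by simp [c', MulAut.conjNormal_apply]
      rw [← mul_assoc (ρ (c' : G)), ← map_mul, hcx, map_mul, mul_assoc (ρ x), hleft,
        mul_smul_comm, smul_mul_assoc, mul_assoc (ρ x), hright, mul_smul_comm, smul_smul]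
    have h2 : LinearMap.trace ℂ (Fin n → ℂ)
        (ρ (c' : G) * (ρ x * E (conjL g)) * ρ ((c'⁻¹ : M) : G)) =
        LinearMap.trace ℂ (Fin n → ℂ) (ρ x * E (conjL g)) := by
      rw [LinearMap.trace_mul_comm, ← mul_assoc, ← map_mul, ← Subgroup.coe_mul,
        inv_mul_cancel, Subgroup.coe_one, map_one, one_mul]
    rw [h1, map_smul, smul_eq_mul] at h2
    by_contra hne
    have h3 := (mul_left_eq_self₀.1 h2).resolve_right hne
    rw [map_inv, Units.val_inv_eq_inv_val] at h3
    exact hc (Units.ext (eq_of_mul_inv_eq_one h3).symm)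
  have hsum : ∑ μ : ↥M →* ℂˣ, E μ = (Nat.card (↥M →* ℂˣ) : ℂ) • 1 := by
    simp only [E]
    rw [Finset.sum_comm]
    simp only [← Finset.sum_smul]
    rw [Finset.sum_eq_single (1 : M)]
    · simp [Nat.card_eq_fintype_card]
    · intro m _ hm
      obtain ⟨ν, hν⟩ := CommGroup.exists_apply_ne_one_of_hasEnoughRootsOfUnity ↥M ℂ hm
      have key : (∑ μ : ↥M →* ℂˣ, ((μ m)⁻¹ : ℂˣ).1) * ((ν m)⁻¹ : ℂˣ).1 =
          ∑ μ : ↥M →* ℂˣ, ((μ m)⁻¹ : ℂˣ).1 := by
        rw [Finset.sum_mul]
        refine Fintype.sum_equiv (Equiv.mulRight ν) _ _ fun μ => ?_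
        simp [mul_comm]
      rw [mul_right_eq_self₀] at key
      rcases key with key | key
      · exact absurd (inv_eq_one.1 (Units.ext key)) hν
      · rw [key, zero_smul]
    · simp
  have hfin := congrArg (fun T => LinearMap.trace ℂ (Fin n → ℂ) (ρ x * T)) hsum
  simp only [Finset.mul_sum, map_sum, htr, Finset.sum_const_zero, mul_smul_comm, mul_one, map_smul,
    smul_eq_mul] at hfin
  rw [← e]
  exact (mul_eq_zero.1 hfin.symm).resolve_left (Nat.cast_ne_zero.2 Nat.card_pos.ne')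

end Cfsg.Agent.H19
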