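import Mathlib
import Cfsg.Agent.H19.Vanishing

/-!
# The Sylow bound from one class of vanishing `p`-singular elements (solvable groups)
-/

set_option autoImplicit false

open scoped IsMulCommutative

namespace Cfsg.Agent.H19

universe u

variable {G : Type u} [Group G] [Finite G] {p : ℕ} [hp : Fact p.Prime]

/-- In a group with trivial `p`-core, a minimal normal subgroup of `p'`-order has all elements of
a normal abelian `p`-section above it among the vanishing elements. -/
theorem vanishes_above (hcore : Cfsg.pCore p G = ⊥) (M : Subgroup G) [M.Normal] [IsMulCommutative M]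
    (hM : ¬ p ∣ Nat.card M) (B : Subgroup (G ⧸ M)) [B.Normal] [IsMulCommutative B]
    (hB : IsPGroup p B) (x : G) (hxB : QuotientGroup.mk' M x ∈ B) (hxM : x ∉ M) : Vanishes x := by
  classical
  set q := QuotientGroup.mk' M with hq
  set A := B.comap q with hA
  have hAn : A.Normal := inferInstance
  obtain ⟨Zs⟩ := (inferInstance : Nonempty (Sylow p ↥A))
  set Z : Subgroup G := (Zs : Subgroup ↥A).map A.subtype with hZ
  have hZp : IsPGroup p Z := Zs.2.map _
  have hZA : Z ≤ A := Subgroup.map_subtype_le _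
  have hMA : M ≤ A := fun m hm => Subgroup.mem_comap.2 (by
    rw [hq, QuotientGroup.mk'_apply, (QuotientGroup.eq_one_iff m).2 hm]; exact one_mem B)
  have hcop : (Nat.card M).Coprime (Nat.card Z) := by
    obtain ⟨k, hk⟩ := IsPGroup.iff_card.1 hZp
    rw [hk]
    exact (((Nat.Prime.coprime_iff_not_dvd hp.out).2 hM).symm).pow_right k
  have hdisj : ∀ z ∈ Z, z ∈ M → z = 1 := fun z hz hzM => by
    have : z ∈ M ⊓ Z := ⟨hzM, hz⟩
    rwa [Subgroup.inf_eq_bot_of_coprime hcop, Subgroup.mem_bot] at this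
  have hinj : Set.InjOn q (Z : Set G) := fun a ha b hb he => by
    have h1 : a⁻¹ * b ∈ M := QuotientGroup.eq.1 he
    exact inv_mul_eq_one.1 (hdisj _ (Z.mul_mem (Z.inv_mem ha) hb) h1)
  have hZmap : Z.map q = B := by
    refine Subgroup.eq_of_le_of_card_ge ?_ ?_
    · rintro _ ⟨z, hz, rfl⟩; exact hZA hz
    · have h1 : Nat.card (Z.map q) = Nat.card Z := by
        refine (Nat.card_congr (Equiv.ofBijective (fun z : Z => (⟨q z, z, z.2, rfl⟩ : Z.map q)) ⟨?_, ?_⟩)).symm
        · intro a b hab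
          exact Subtype.ext (hinj a.2 b.2 (congrArg Subtype.val hab))
        · rintro ⟨_, z, hz, rfl⟩; exact ⟨⟨z, hz⟩, rfl⟩
      rw [h1, hZ, Subgroup.card_map_of_injective A.subtype_injective, Zs.card_eq_multiplicity,
        hA, hq, card_comap_mk, Nat.factorization_mul Nat.card_pos.ne' Nat.card_pos.ne',
        Finsupp.add_apply, Nat.factorization_eq_zero_of_not_dvd hM, add_zero]
      obtain ⟨k, hk⟩ := IsPGroup.iff_card.1 hB
      rw [hk, Nat.Prime.factorization_pow hp.out, Finsupp.single_eq_same]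
  have hsplit : ∀ a ∈ A, ∃ m ∈ M, ∃ z ∈ Z, a = m * z := by
    intro a ha
    obtain ⟨z, hz, hza⟩ := (hZmap ▸ (Subgroup.mem_comap.1 ha) : q a ∈ Z.map q)
    refine ⟨a * z⁻¹, (QuotientGroup.eq_one_iff _).1 ?_, z, hz, by group⟩
    change q (a * z⁻¹) = 1
    rw [map_mul, map_inv, hza, mul_inv_cancel]
  haveI hZc : IsMulCommutative Z := ⟨⟨fun a b => Subtype.ext (hinj (Z.mul_mem a.2 b.2)
    (Z.mul_mem b.2 a.2) (by
      have ha : q a ∈ B := hZA a.2
      have hb : q b ∈ B := hZA b.2
      simp only [map_mul]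
      exact congrArg Subtype.val (mul_comm (⟨_, ha⟩ : B) ⟨_, hb⟩)))⟩⟩
  have hfaith : ∀ z ∈ Z, (∀ m ∈ M, z * m = m * z) → z = 1 := by
    -- the elements of `Z` centralizing `M` form a normal `p`-subgroup of `A`
    set W : Subgroup G := Z ⊓ Subgroup.centralizer (M : Set G) with hW
    have hWn : (W.subgroupOf A).Normal := by
      refine ⟨fun w hw a => ?_⟩
      rw [Subgroup.mem_subgroupOf] at hw ⊢
      obtain ⟨m, hm, z, hz, he⟩ := hsplit a a.2
      have hzw : z * (w : G) * z⁻¹ = w := by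
        have h0 : z * (w : G) = w * z := congrArg Subtype.val (mul_comm (⟨z, hz⟩ : Z) ⟨w, hw.1⟩)
        rw [h0, mul_inv_cancel_right]
      have hmw : m * (w : G) * m⁻¹ = w := by
        rw [Subgroup.mem_centralizer_iff.1 hw.2 m hm, mul_inv_cancel_right]
      show (a : G) * w * (a : G)⁻¹ ∈ W
      rw [he, show m * z * (w : G) * (m * z)⁻¹ = m * (z * w * z⁻¹) * m⁻¹ by group, hzw, hmw]
      exact hw
    have hWp : IsPGroup p (W.subgroupOf A) :=
      (hZp.to_le inf_le_left).comap_of_injective A.subtype A.subtype_injective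
    intro z hz hc
    have hzW : z ∈ W := ⟨hz, Subgroup.mem_centralizer_iff.2 fun m hm => (hc m hm).symm⟩
    have h2 : z ∈ (Cfsg.pCore p ↥A).map A.subtype :=
      ⟨⟨z, hZA hz⟩, le_pCore hWn hWp hzW, rfl⟩
    have h3 := map_pCore_le A h2
    rwa [hcore, Subgroup.mem_bot] at h3
  obtain ⟨l, hl⟩ := exists_regular_linear M Z hM hZp hfaith
  refine vanishes_of_moves M l x fun g => ?_
  by_contra hfix
  push Not at hfix
  have hy : g * x * g⁻¹ ∈ A := hAn.conj_mem x hxB g
  obtain ⟨m, hm, z, hz, he⟩ := hsplit _ hy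
  have hz1 : z = 1 := by
    refine hl z hz fun n => ?_
    have h := hfix (MulAut.conjNormal g⁻¹ n)
    have e1 : MulAut.conjNormal g (MulAut.conjNormal g⁻¹ n) = n := by simp
    have e2 : MulAut.conjNormal g (MulAut.conjNormal x (MulAut.conjNormal g⁻¹ n)) =
        MulAut.conjNormal (g * x * g⁻¹) n := by
      simp [map_mul, MulAut.mul_apply]
    rw [e1, e2, he, map_mul, MulAut.mul_apply] at h
    have e3 : MulAut.conjNormal m (MulAut.conjNormal z n) = MulAut.conjNormal z n := by
      apply Subtype.ext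
      rw [MulAut.conjNormal_apply]
      have := congrArg Subtype.val (mul_comm (⟨m, hm⟩ : M) (MulAut.conjNormal z n))
      simp only [Subgroup.coe_mul] at this
      rw [this, mul_inv_cancel_right]
    rwa [e3] at h
  rw [hz1, mul_one] at he
  refine hxM ?_
  have := Subgroup.Normal.conj_mem ‹M.Normal› m hm g⁻¹
  rwa [← he, show g⁻¹ * (g * x * g⁻¹) * g⁻¹⁻¹ = x by group] at this

/-- A minimal normal subgroup of a solvable group with trivial `p`-core. -/
theorem exists_minimal_pPrime [Group.IsSolvable G] [Nontrivial G] (hcore : Cfsg.pCore p G = ⊥) :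
    ∃ M : Subgroup G, M.Normal ∧ M ≠ ⊥ ∧ IsMulCommutative M ∧ ¬ p ∣ Nat.card M := by
  obtain ⟨A, r, hA, hA0, hc, hr, hrA, -⟩ := exists_normal_elementary (G := G)
  refine ⟨A, hA, hA0, hc, fun hd => hA0 ?_⟩
  obtain ⟨k, hk⟩ := (haveI := Fact.mk hr; IsPGroup.iff_card.1 hrA)
  have : r = p := by
    rw [hk] at hd
    exact ((Nat.prime_dvd_prime_iff_eq hp.out hr).1 (hp.out.dvd_of_dvd_pow hd)).symm
  subst this
  rw [eq_bot_iff, ← hcore]
  exact le_pCore hA hrA

/-- A nontrivial normal `p`-subgroup of a solvable group contains a nontrivial abelian one of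
exponent `p`, normal in the group. -/
theorem exists_abelian_le_pCore [Group.IsSolvable G] (hne : Cfsg.pCore p G ≠ ⊥) :
    ∃ B : Subgroup G, B.Normal ∧ B ≠ ⊥ ∧ IsMulCommutative B ∧ IsPGroup p B ∧ ∀ x ∈ B, x ^ p = 1 := by
  haveI := pCore_normal p G
  obtain ⟨B, r, hB, hBle, hB0, hc, hr, hrB, hpow⟩ :=
    exists_normal_elementary_le (Cfsg.pCore p G) inferInstance hne
  have hBp : IsPGroup p B := (pCore_isPGroup p).to_le hBle
  obtain ⟨x, hx⟩ := B.ne_bot_iff_exists_ne_one.1 hB0
  have hord : orderOf x = r := by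
    haveI := Fact.mk hr
    exact orderOf_eq_prime (Subtype.ext (hpow x x.2)) hx
  obtain ⟨k, hk⟩ := IsPGroup.iff_orderOf.1 hBp x
  have : r = p := ((Nat.prime_dvd_prime_iff_eq hr hp.out).1
    (hr.dvd_of_dvd_pow (hord ▸ hk ▸ dvd_rfl : r ∣ p ^ k)))
  exact ⟨B, hB, hB0, hc, hBp, this ▸ hpow⟩

/-- A solvable group of order divisible by `p` with trivial `p`-core has a vanishing `p`-element. -/
theorem exists_vanishing_pElement [Group.IsSolvable G] (hcore : Cfsg.pCore p G = ⊥)
    (hdvd : p ∣ Nat.card G) : ∃ x : G, x ≠ 1 ∧ (∃ k, orderOf x = p ^ k) ∧ Vanishes x := by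
  induction hn : Nat.card G using Nat.strong_induction_on generalizing G with
  | _ n ih =>
  subst hn
  haveI : Nontrivial G := Finite.one_lt_card_iff_nontrivial.1
    (lt_of_lt_of_le hp.out.one_lt (Nat.le_of_dvd Nat.card_pos hdvd))
  obtain ⟨M, hMn, hM0, hMc, hMp⟩ := exists_minimal_pPrime hcore
  by_cases hQ : Cfsg.pCore p (G ⧸ M) = ⊥
  · have hd : p ∣ Nat.card (G ⧸ M) := by
      rw [M.card_eq_card_quotient_mul_card_subgroup] at hdvd
      exact (hp.out.dvd_mul.1 hdvd).resolve_right hMp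
    obtain ⟨y, hy1, ⟨k, hk⟩, hyv⟩ := ih _ (card_quotient_lt M hM0) hQ hd rfl
    obtain ⟨x, hxy, hx⟩ := exists_pElement_preimage M y hk
    exact ⟨x, fun h => hy1 (by rw [← hxy, h, map_one]), hx, Vanishes.of_mk (hxy ▸ hyv)⟩
  · obtain ⟨B, hBn, hB0, hBc, hBp, -⟩ := exists_abelian_le_pCore hQ
    obtain ⟨b, hb⟩ := B.ne_bot_iff_exists_ne_one.1 hB0
    obtain ⟨k, hk⟩ := IsPGroup.iff_orderOf.1 hBp b
    obtain ⟨x, hxb, hx⟩ := exists_pElement_preimage M (b : G ⧸ M)
      ((Subgroup.orderOf_coe b).trans hk)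
    have hxM : x ∉ M := fun h => hb (Subtype.ext (by
      rw [← hxb, QuotientGroup.mk'_apply, (QuotientGroup.eq_one_iff x).2 h]; rfl))
    exact ⟨x, fun h => hxM (h ▸ one_mem M), hx,
      vanishes_above hcore M hMp B hBp x (hxb ▸ b.2) hxM⟩

omit hp in
/-- Conjugate of a member of a normal subgroup. -/
theorem mem_of_isConj {N : Subgroup G} [hN : N.Normal] {a b : G} (h : IsConj a b) (ha : a ∈ N) :
    b ∈ N := by
  obtain ⟨c, rfl⟩ := isConj_iff.1 h
  exact hN.conj_mem a ha c

omit hp in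
/-- The image of a subgroup meeting no normal `p'`-subgroup keeps its order. -/
theorem factorization_quotient (M : Subgroup G) [M.Normal] (hM : ¬ p ∣ Nat.card M) :
    (Nat.card G).factorization p = (Nat.card (G ⧸ M)).factorization p := by
  rw [M.card_eq_card_quotient_mul_card_subgroup,
    Nat.factorization_mul Nat.card_pos.ne' Nat.card_pos.ne', Finsupp.add_apply,
    Nat.factorization_eq_zero_of_not_dvd hM, add_zero]

/-- With trivial `p`-core and conjugate vanishing `p`-singular elements, `p²` does not divide the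
order. -/
theorem factorization_le_one_of_conjVanishing [Group.IsSolvable G] (hcore : Cfsg.pCore p G = ⊥)
    (hc : ConjVanishing p G) : (Nat.card G).factorization p ≤ 1 := by
  induction hn : Nat.card G using Nat.strong_induction_on generalizing G with
  | _ n ih =>
  subst hn
  by_cases hdvd : p ∣ Nat.card G
  swap
  · rw [Nat.factorization_eq_zero_of_not_dvd hdvd]; exact zero_le_one
  haveI : Nontrivial G := Finite.one_lt_card_iff_nontrivial.1
    (lt_of_lt_of_le hp.out.one_lt (Nat.le_of_dvd Nat.card_pos hdvd))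
  obtain ⟨M, hMn, hM0, hMc, hMp⟩ := exists_minimal_pPrime hcore
  rw [factorization_quotient M hMp]
  by_cases hQ : Cfsg.pCore p (G ⧸ M) = ⊥
  · exact ih _ (card_quotient_lt M hM0) hQ (hc.quotient M) rfl
  obtain ⟨B, hBn, hB0, hBc, hBp, hBpow⟩ := exists_abelian_le_pCore hQ
  -- lifts
  have hlift : ∀ (C : Subgroup (G ⧸ M)) [C.Normal] [IsMulCommutative C], IsPGroup p C →
      ∀ c ∈ C, c ≠ 1 → ∃ x, QuotientGroup.mk' M x = c ∧ Vanishes x ∧ p ∣ orderOf x ∧
        (∃ j, orderOf x = p ^ j) ∧ x ∉ M := by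
    intro C _ _ hC c hcC hc1
    obtain ⟨k, hk⟩ := IsPGroup.iff_orderOf.1 hC ⟨c, hcC⟩
    rw [← Subgroup.orderOf_coe, Subtype.coe_mk] at hk
    obtain ⟨x, hxc, j, hj⟩ := exists_pElement_preimage M c hk
    have hxM : x ∉ M := fun h => hc1 (by
      rw [← hxc, QuotientGroup.mk'_apply, (QuotientGroup.eq_one_iff x).2 h])
    refine ⟨x, hxc, vanishes_above hcore M hMp C hC x (hxc ▸ hcC) hxM, ?_, ⟨j, hj⟩, hxM⟩
    rcases j with _ | j
    · rw [pow_zero, orderOf_eq_one_iff] at hj; exact absurd (hj ▸ one_mem M) hxM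
    · exact hj ▸ dvd_pow_self p j.succ_ne_zero
  obtain ⟨⟨b₀, hb₀⟩, hb₀1⟩ := B.ne_bot_iff_exists_ne_one.1 hB0
  obtain ⟨x₀, hx₀, hx₀v, hx₀p, ⟨j₀, hj₀⟩, hx₀M⟩ :=
    hlift B hBp b₀ hb₀ fun h => hb₀1 (Subtype.ext h)
  -- every vanishing p-singular element of the quotient lies in B
  have hall : ∀ k : G ⧸ M, Vanishes k → p ∣ orderOf k → k ∈ B := by
    intro k hk hkp
    obtain ⟨y, rfl⟩ := QuotientGroup.mk'_surjective M k
    refine mem_of_isConj (a := QuotientGroup.mk' M x₀) (MonoidHom.map_isConj _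
      (hc x₀ y hx₀v hx₀p hk.of_mk (hkp.trans (orderOf_map_dvd _ y)))) (hx₀ ▸ hb₀)
  have habel : ∀ (C : Subgroup (G ⧸ M)) [C.Normal] [IsMulCommutative C], IsPGroup p C → C ≤ B := by
    intro C _ _ hC c hcC
    by_cases hc1 : c = 1
    · exact hc1 ▸ one_mem B
    obtain ⟨x, hxc, hxv, hxp, -, -⟩ := hlift C hC c hcC hc1
    exact mem_of_isConj (a := QuotientGroup.mk' M x₀) (hxc ▸ MonoidHom.map_isConj _
      (hc x₀ x hx₀v hx₀p hxv hxp)) (hx₀ ▸ hb₀)
  -- B has order p
  haveI : Nontrivial ↥M := M.nontrivial_iff_ne_bot.2 hM0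
  have hBcard : Nat.card B = p := by
    set A := B.comap (QuotientGroup.mk' M) with hA
    obtain ⟨Zs⟩ := (inferInstance : Nonempty (Sylow p ↥A))
    set Z : Subgroup G := (Zs : Subgroup ↥A).map A.subtype with hZdef
    have hZp : IsPGroup p Z := Zs.2.map _
    have hZcard : Nat.card Z = Nat.card B := by
      rw [hZdef, Subgroup.card_map_of_injective A.subtype_injective, Zs.card_eq_multiplicity, hA,
        card_comap_mk, Nat.factorization_mul Nat.card_pos.ne' Nat.card_pos.ne', Finsupp.add_apply,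
        Nat.factorization_eq_zero_of_not_dvd hMp, add_zero]
      obtain ⟨k, hk⟩ := IsPGroup.iff_card.1 hBp
      rw [hk, Nat.Prime.factorization_pow hp.out, Finsupp.single_eq_same]
    have hzM : ∀ z ∈ Z, z ∈ M → z = 1 := fun z hz hzm => by
      have hcop : (Nat.card M).Coprime (Nat.card Z) := by
        obtain ⟨k, hk⟩ := IsPGroup.iff_card.1 hZp
        rw [hk]
        exact (((Nat.Prime.coprime_iff_not_dvd hp.out).2 hMp).symm).pow_right k
      have : z ∈ M ⊓ Z := ⟨hzm, hz⟩
      rwa [Subgroup.inf_eq_bot_of_coprime hcop, Subgroup.mem_bot] at this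
    have hZB : ∀ z ∈ Z, QuotientGroup.mk' M z ∈ B := fun z hz => by
      obtain ⟨a, -, rfl⟩ := hz
      exact a.2
    have hZcomm : ∀ a b : Z, a * b = b * a := fun a b => by
      have h1 : QuotientGroup.mk' M ((a : G) * b * (a : G)⁻¹ * (b : G)⁻¹) = 1 := by
        have h := congrArg Subtype.val (mul_comm (⟨_, hZB a a.2⟩ : B) ⟨_, hZB b b.2⟩)
        simp only [Subgroup.coe_mul] at h
        simp only [map_mul, map_inv]
        rw [h]; group
      have h2 := hzM _ (Z.mul_mem (Z.mul_mem (Z.mul_mem a.2 b.2) (Z.inv_mem a.2)) (Z.inv_mem b.2))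
        ((QuotientGroup.eq_one_iff _).1 h1)
      exact Subtype.ext (mul_inv_eq_iff_eq_mul.1 (mul_inv_eq_one.1 h2))
    haveI : IsMulCommutative Z := ⟨⟨hZcomm⟩⟩
    let ψ : Z →* MulAut ↥M := (MulAut.conjNormal (H := M)).comp Z.subtype
    have hfpf : ∀ e : Z, e ≠ 1 → ∀ m : M, ψ e m = m → m = 1 := by
      rintro ⟨z, hz⟩ he m hm
      have hz1 : z ≠ 1 := fun h => he (Subtype.ext h)
      have hcm : z * (m : G) = m * z := by
        have h := congrArg Subtype.val hm
        simp only [ψ, MonoidHom.coe_comp, Function.comp_apply, Subgroup.coe_subtype,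
          MulAut.conjNormal_apply] at h
        exact mul_inv_eq_iff_eq_mul.1 h
      have hzM' : z ∉ M := fun h => hz1 (hzM z hz h)
      have hzmM : z * (m : G) ∉ M := fun h => hzM' (by simpa using M.mul_mem h (M.inv_mem m.2))
      have hmk : QuotientGroup.mk' M (z * (m : G)) ∈ B := by
        rw [map_mul, (QuotientGroup.mk'_apply M (m : G)), (QuotientGroup.eq_one_iff _).2 m.2,
          mul_one]
        exact hZB z hz
      have hv1 := vanishes_above hcore M hMp B hBp _ (hZB z hz) hzM'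
      have hv2 := vanishes_above hcore M hMp B hBp _ hmk hzmM
      have hordz : p ∣ orderOf z := by
        obtain ⟨k, hk⟩ := IsPGroup.iff_orderOf.1 hZp ⟨z, hz⟩
        rw [← Subgroup.orderOf_coe, Subtype.coe_mk] at hk
        rcases k with _ | k
        · rw [pow_zero, orderOf_eq_one_iff] at hk; exact absurd hk hz1
        · exact hk ▸ dvd_pow_self p k.succ_ne_zero
      have hcop : (orderOf z).Coprime (orderOf (m : G)) := by
        obtain ⟨k, hk⟩ := IsPGroup.iff_orderOf.1 hZp ⟨z, hz⟩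
        rw [← Subgroup.orderOf_coe, Subtype.coe_mk] at hk
        rw [hk]
        refine Nat.Coprime.pow_left k ((Nat.Prime.coprime_iff_not_dvd hp.out).2 fun hd => hMp ?_)
        rw [Subgroup.orderOf_coe] at hd
        exact hd.trans (orderOf_dvd_natCard m)
      have hmul := Commute.orderOf_mul_eq_mul_orderOf_of_coprime hcm hcop
      obtain ⟨c, hc'⟩ := isConj_iff.1 (hc z (z * m) hv1 hordz hv2 (hmul ▸ hordz.mul_right _))
      have heq : orderOf z = orderOf (z * (m : G)) := by
        rw [← hc']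
        exact (orderOf_injective (MulAut.conj c).toMonoidHom (MulAut.conj c).injective z).symm
      rw [hmul] at heq
      have : orderOf (m : G) = 1 := (mul_eq_left₀ (orderOf_pos z).ne').1 heq.symm
      exact Subtype.ext (orderOf_eq_one_iff.1 this)
    haveI : IsCyclic Z := H21.isCyclic_of_fpf_abelian ψ hfpf (Or.inl inferInstance)
    obtain ⟨g, hg⟩ := IsCyclic.exists_generator (α := Z)
    have hgp : g ^ p = 1 := by
      have h1 : QuotientGroup.mk' M ((g : G) ^ p) = 1 := by
        rw [map_pow]; exact hBpow _ (hZB g g.2)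
      exact Subtype.ext (hzM _ (Z.pow_mem g.2 p) ((QuotientGroup.eq_one_iff _).1 h1))
    have hcardZ : Nat.card Z = orderOf g := by
      rw [← Nat.card_zpowers, show Subgroup.zpowers g = ⊤ from eq_top_iff.2 fun x _ => hg x,
        Subgroup.card_top]
    rw [← hZcard, hcardZ]
    rcases (Nat.dvd_prime hp.out).1 (orderOf_dvd_of_pow_eq_one hgp) with h | h
    · exfalso
      rw [h, hZcard] at hcardZ
      exact hB0 (Subgroup.card_eq_one.1 hcardZ)
    · exact h
  -- the quotient by B
  have hfB : (Nat.card (G ⧸ M)).factorization p = (Nat.card ((G ⧸ M) ⧸ B)).factorization p + 1 := by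
    rw [B.card_eq_card_quotient_mul_card_subgroup,
      Nat.factorization_mul Nat.card_pos.ne' Nat.card_pos.ne', Finsupp.add_apply, hBcard,
      hp.out.factorization_self]
  by_cases hR : p ∣ Nat.card ((G ⧸ M) ⧸ B)
  swap
  · rw [hfB, Nat.factorization_eq_zero_of_not_dvd hR]
  exfalso
  set R := (G ⧸ M) ⧸ B with hRdef
  haveI := pCore_normal p R
  have hRp : ¬ p ∣ Nat.card (R ⧸ Cfsg.pCore p R) := fun hd => by
    obtain ⟨r, hr1, ⟨k, hk⟩, hrv⟩ := exists_vanishing_pElement (pCore_quotient_pCore p) hd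
    obtain ⟨y, rfl, j, hj⟩ := exists_pElement_preimage _ r hk
    obtain ⟨w, rfl, i, hi⟩ := exists_pElement_preimage B y hj
    have hwB : w ∉ B := fun h => hr1 (by
      rw [show QuotientGroup.mk' B w = 1 from (QuotientGroup.eq_one_iff w).2 h, map_one])
    refine hwB (hall w hrv.of_mk.of_mk ?_)
    rcases i with _ | i
    · rw [pow_zero, orderOf_eq_one_iff] at hi; exact absurd (hi ▸ one_mem B) hwB
    · exact hi ▸ dvd_pow_self p i.succ_ne_zero
  set P := (Cfsg.pCore p R).comap (QuotientGroup.mk' B) with hP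
  have hPn : P.Normal := inferInstance
  have hPp : IsPGroup p P := (pCore_isPGroup p).comap_of_ker_isPGroup _ (by
    rw [QuotientGroup.ker_mk']; exact hBp)
  have hBP : B ≤ P := fun b hb => Subgroup.mem_comap.2 (by
    rw [QuotientGroup.mk'_apply, (QuotientGroup.eq_one_iff b).2 hb]; exact one_mem _)
  have hPB : ¬ P ≤ B := fun h => by
    apply hRp
    have hbot : Cfsg.pCore p R = ⊥ := by
      rw [eq_bot_iff]
      intro r hr
      obtain ⟨y, rfl⟩ := QuotientGroup.mk'_surjective B r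
      rw [Subgroup.mem_bot, QuotientGroup.mk'_apply, QuotientGroup.eq_one_iff]
      exact h hr
    rw [← Subgroup.index_eq_card, hbot, Subgroup.index_bot]
    exact hR
  haveI : Nontrivial P := P.nontrivial_iff_ne_bot.2 fun h => hPB (h ▸ bot_le)
  set C : Subgroup (G ⧸ M) := (Subgroup.center ↥P).map P.subtype with hC
  haveI : C.Normal := ConjAct.normal_of_characteristic_of_normal
  haveI : IsMulCommutative C := ⟨⟨by
    rintro ⟨_, a, ha, rfl⟩ ⟨_, b, hb, rfl⟩
    exact Subtype.ext (congrArg (fun w : ↥P => (w : G ⧸ M)) ((Subgroup.mem_center_iff.1 hb) a))⟩⟩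
  have hCB : C ≤ B := habel C (hPp.to_le (Subgroup.map_subtype_le _))
  have hCne : C ≠ ⊥ := fun h => by
    have := hPp.center_nontrivial
    exact (Subgroup.nontrivial_iff_ne_bot _).1 this
      ((Subgroup.map_eq_bot_iff_of_injective _ P.subtype_injective).1 h)
  have hCeq : C = B := by
    refine Subgroup.eq_of_le_of_card_ge hCB ?_
    rw [hBcard]
    rcases (Nat.dvd_prime hp.out).1 (hBcard ▸ Subgroup.card_dvd_of_le hCB) with h | h
    · exact absurd (Subgroup.card_eq_one.1 h) hCne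
    · exact h.ge
  -- an element of the second centre outside B
  set Zc := Subgroup.center ↥P with hZc
  haveI : Nontrivial (↥P ⧸ Zc) := by
    refine QuotientGroup.nontrivial_iff.2 fun h => hPB ?_
    rw [← hCeq, hC, h, ← MonoidHom.range_eq_map, Subgroup.range_subtype]
  obtain ⟨⟨yb, hyb⟩, hyb1⟩ := Subgroup.ne_bot_iff_exists_ne_one.1
    ((Subgroup.nontrivial_iff_ne_bot _).1 (hPp.to_quotient Zc).center_nontrivial)
  obtain ⟨y, rfl⟩ := QuotientGroup.mk'_surjective Zc yb
  have hyZ : y ∉ Zc := fun h => hyb1 (Subtype.ext ((QuotientGroup.eq_one_iff y).2 h))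
  obtain ⟨q, hq⟩ : ∃ q : ↥P, q * y ≠ y * q := by
    by_contra hno
    exact hyZ (Subgroup.mem_center_iff.2 fun q => not_not.1 fun h => hno ⟨q, h⟩)
  set z : ↥P := y⁻¹ * (q * y * q⁻¹) with hz
  have hzc : z ∈ Zc := by
    refine (QuotientGroup.eq_one_iff z).1 ?_
    have h := Subgroup.mem_center_iff.1 hyb (QuotientGroup.mk' Zc q)
    show QuotientGroup.mk' Zc z = 1
    simp only [hz, map_mul, map_inv, h]
    group
  have hz1 : z ≠ 1 := fun h => hq (by
    have h' := inv_mul_eq_one.1 h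
    exact (mul_inv_eq_iff_eq_mul.1 h'.symm))
  have hzB : (z : G ⧸ M) ∈ B := hCB ⟨z, hzc, rfl⟩
  have hzeq : Subgroup.zpowers (z : G ⧸ M) = B := by
    refine Subgroup.eq_of_le_of_card_ge (Subgroup.zpowers_le.2 hzB) ?_
    rw [hBcard, Nat.card_zpowers]
    rcases (Nat.dvd_prime hp.out).1
      ((Subgroup.orderOf_dvd_natCard B hzB).trans hBcard.dvd) with h | h
    · exact absurd (Subtype.ext (orderOf_eq_one_iff.1 h)) hz1
    · exact h.ge
  haveI : (Subgroup.zpowers (z : G ⧸ M)).Normal := hzeq ▸ hBn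
  have hv : Vanishes (y : G ⧸ M) := by
    refine vanishes_of_conj_eq_mul (q := (q : G ⧸ M)) (z := (z : G ⧸ M))
      (fun h => hz1 (Subtype.ext h)) (congrArg Subtype.val (Subgroup.mem_center_iff.1 hzc q)) ?_
    simp [hz]
  have hyB : (y : G ⧸ M) ∈ B := hall _ hv (by
    rw [Subgroup.orderOf_coe]
    obtain ⟨k, hk⟩ := IsPGroup.iff_orderOf.1 hPp y
    rcases k with _ | k
    · rw [pow_zero, orderOf_eq_one_iff] at hk; exact absurd (hk ▸ one_mem Zc) hyZ
    · exact hk ▸ dvd_pow_self p k.succ_ne_zero)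
  obtain ⟨a, ha, hae⟩ := (hCeq ▸ hyB : (y : G ⧸ M) ∈ C)
  exact hyZ ((Subtype.ext hae : a = y) ▸ ha)

/-- Conjugate vanishing `p`-singular elements bound a Sylow `p`-subgroup by `p·|O_p(G)|`. -/
theorem card_sylow_le_of_conjVanishing [Group.IsSolvable G] (hc : ConjVanishing p G)
    (P : Sylow p G) : Nat.card P ≤ p * Nat.card (Cfsg.pCore p G) := by
  haveI := pCore_normal p G
  set O := Cfsg.pCore p G
  have h := factorization_le_one_of_conjVanishing (G := G ⧸ O) (pCore_quotient_pCore p) (hc.quotient O)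
  obtain ⟨k, hk⟩ := IsPGroup.iff_card.1 (pCore_isPGroup (G := G) p)
  rw [P.card_eq_multiplicity, O.card_eq_card_quotient_mul_card_subgroup,
    Nat.factorization_mul Nat.card_pos.ne' Nat.card_pos.ne', Finsupp.add_apply, hk,
    hp.out.factorization_pow, Finsupp.single_eq_same, pow_add]
  exact Nat.mul_le_mul_right _ ((Nat.pow_le_pow_right hp.out.pos h).trans (pow_one p).le)

end Cfsg.Agent.H19
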